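import Groth.Agent.Lib.DeformIso.Basic
import Groth.Agent.Lib.GrpSchField.HomFlat
import Groth.Agent.Lib.GrpSchField.Pts
import Groth.Agent.Lib.DiagGrp.TrivOver
import Groth.Agent.Lib.Flatness.Criterion
import Mathlib.AlgebraicGeometry.Morphisms.FlatMono
import Mathlib.CategoryTheory.Monoidal.Cartesian.Mon

/-!
The unit group of a monoid scheme over a field is open: units are detected modulo nilpotents, so
the monomorphism from the unit group is formally étale at every point, hence flat.
-/

universe u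

open CategoryTheory MonoidalCategory CartesianMonoidalCategory MonObj AlgebraicGeometry Limits

namespace GrothLib.MonoidUnits

variable {k : Type u} [Field k] {M : Over (Spec (CommRingCat.of k))} [MonObj M]

/-- Right multiplication by a point. -/
noncomputable def rmul {T : Over (Spec (CommRingCat.of k))} (m : T ⟶ M) : M ⊗ T ⟶ M ⊗ T :=
  lift (fst M T * (snd M T ≫ m)) (snd M T)

theorem rmul_comp {T : Over (Spec (CommRingCat.of k))} (m n : T ⟶ M) :
    rmul m ≫ rmul n = rmul (m * n) := by
  apply CartesianMonoidalCategory.hom_ext <;>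
    simp [rmul, MonObj.comp_mul, _root_.mul_assoc]

theorem rmul_one {T : Over (Spec (CommRingCat.of k))} : rmul (1 : T ⟶ M) = 𝟙 (M ⊗ T) := by
  apply CartesianMonoidalCategory.hom_ext <;> simp [rmul, MonObj.comp_one]

theorem isIso_rmul {T : Over (Spec (CommRingCat.of k))} {m : T ⟶ M} (h : IsUnit m) :
    IsIso (rmul m) := by
  obtain ⟨u, rfl⟩ := h
  exact ⟨⟨rmul (↑u⁻¹ : T ⟶ M), by rw [rmul_comp, u.mul_inv, rmul_one],
    by rw [rmul_comp, u.inv_mul, rmul_one]⟩⟩

theorem exists_left_inv {T₀ T : Over (Spec (CommRingCat.of k))} (t : T₀ ⟶ T)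
    (ht : MoreMor.IsFiniteOrderThickening t.left) (m : T ⟶ M) (h : IsUnit (t ≫ m)) :
    ∃ a : T ⟶ M, a * m = 1 := by
  have : IsIso (rmul (t ≫ m)) := isIso_rmul h
  have : IsIso (rmul (t ≫ m)).left := (Over.forget _).map_isIso (rmul (t ≫ m))
  have sq := GrothLib.GrpSchField.whiskerLeft_snd_isPullback M t
  have e₀ : (rmul (t ≫ m)).left ≫ (snd M T₀).left = (snd M T₀).left := by
    rw [← Over.comp_left]; simp [rmul]
  have e₁ : (rmul m).left ≫ (snd M T).left = (snd M T).left := by
    rw [← Over.comp_left]; simp [rmul]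
  have : Flat M.hom := GrothLib.DiagGrp.flat_of_field _
  have : Flat ((rmul m).left ≫ (snd M T).left) := by
    rw [e₁]; exact inferInstanceAs (Flat (pullback.snd M.hom T.hom))
  have hw : (M ◁ t).left ≫ (rmul m).left = (rmul (t ≫ m)).left ≫ (M ◁ t).left := by
    rw [← Over.comp_left, ← Over.comp_left]
    congr 1
    apply CartesianMonoidalCategory.hom_ext <;> simp [rmul, MonObj.comp_mul]
  have : IsIso (rmul m).left :=
    GrothLib.DeformIso.isIso_of_isIso_baseChange (M ◁ t).left (M ◁ t).left t.left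
      (rmul (t ≫ m)).left (rmul m).left (snd M T₀).left (snd M T).left ht
      (by rw [e₀, e₁]; exact sq) sq hw
  have : IsIso ((Over.forget _).map (rmul m)) := ‹_›
  have : IsIso (rmul m) := isIso_of_reflects_iso _ (Over.forget _)
  let b : T ⟶ M ⊗ T := lift 1 (𝟙 T) ≫ inv (rmul m)
  have hb : b ≫ rmul m = lift 1 (𝟙 T) := by simp [b]
  have h1 := congrArg (· ≫ fst M T) hb
  have h2 := congrArg (· ≫ snd M T) hb
  simp only [rmul, Category.assoc, lift_fst, lift_snd, MonObj.comp_mul] at h1 h2
  rw [← Category.assoc, h2, Category.id_comp] at h1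
  exact ⟨b ≫ fst M T, h1⟩

/-- Being invertible is insensitive to finite order thickenings. -/
theorem isUnit_of_thickening {T₀ T : Over (Spec (CommRingCat.of k))} (t : T₀ ⟶ T)
    (ht : MoreMor.IsFiniteOrderThickening t.left) (m : T ⟶ M) (h : IsUnit (t ≫ m)) :
    IsUnit m := by
  obtain ⟨a, ha⟩ := exists_left_inv t ht m h
  have hta : (t ≫ a) * (t ≫ m) = 1 := by rw [← MonObj.comp_mul, ha, MonObj.comp_one]
  obtain ⟨u, hu⟩ := h
  have : t ≫ a = (↑u⁻¹ : T₀ ⟶ M) := by
    rw [← hu] at hta
    exact (Units.eq_inv_of_mul_eq_one_right hta)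
  obtain ⟨b, hb⟩ := exists_left_inv t ht a ⟨u⁻¹, this.symm⟩
  exact ⟨⟨m, a, by rw [← left_inv_eq_right_inv hb ha]; exact hb, ha⟩, rfl⟩

theorem isFiniteOrderThickening_specMap {R S : CommRingCat.{u}} (φ : R ⟶ S)
    (hφ : Function.Surjective φ.hom) (hn : IsNilpotent (RingHom.ker φ.hom)) :
    MoreMor.IsFiniteOrderThickening (Spec.map φ) := by
  obtain ⟨n, hn⟩ := hn
  refine ⟨⟨IsClosedImmersion.spec_of_surjective φ hφ, ⟨?_⟩⟩, n, ?_⟩
  · intro p
    have hp : RingHom.ker φ.hom ≤ p.asIdeal := fun a ha =>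
      p.2.mem_of_pow_mem n (by
        have : a ^ n ∈ RingHom.ker φ.hom ^ n := Ideal.pow_mem_pow ha n
        rw [hn] at this
        rw [show a ^ n = 0 from this]; exact zero_mem _)
    exact ((range_comap_of_surjective _ φ.hom hφ).symm ▸
      (PrimeSpectrum.mem_zeroLocus p _).2 hp :)
  · apply Scheme.IdealSheafData.ext_of_isAffine
    rw [Scheme.IdealSheafData.ideal_pow, Pi.pow_apply, Scheme.Hom.ker_apply]
    refine (eq_bot_iff.2 fun a ha => ?_ : _ = (⊥ : Ideal _)).trans ?_
    · have hmap : Ideal.map (Scheme.ΓSpecIso R).hom.hom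
          (RingHom.ker ((Spec.map φ).app ⊤).hom) ≤ RingHom.ker φ.hom := by
        rw [Ideal.map_le_iff_le_comap]
        intro b hb
        have e := congrArg (fun g => g.hom b) (Scheme.ΓSpecIso_naturality φ)
        have hb' : ((Spec.map φ).appTop).hom b = 0 := hb
        simp only [CommRingCat.hom_comp, RingHom.coe_comp, Function.comp_apply, hb', map_zero] at e
        exact e.symm
      have h2 := (Ideal.pow_right_mono hmap n) (by
        rw [← Ideal.map_pow]; exact Ideal.mem_map_of_mem _ ha)
      rw [hn] at h2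
      exact (Scheme.ΓSpecIso R).commRingCatIsoToRingEquiv.injective (h2.trans (map_zero _).symm)
    · rfl

/-- The flatness criterion: a local homomorphism of noetherian local rings whose reductions modulo
every power of the maximal ideal split as isomorphisms is flat. -/
theorem flat_of_split {R S : Type u} [CommRing R] [CommRing S] [IsLocalRing R] [IsLocalRing S]
    [IsNoetherianRing R] [IsNoetherianRing S] (φ : R →+* S) [IsLocalHom φ]
    (H : ∀ n, ∃ ψ : S →+* R ⧸ IsLocalRing.maximalIdeal R ^ (n + 1),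
      ψ.comp φ = Ideal.Quotient.mk _ ∧ ∀ s r, Ideal.Quotient.mk _ r = ψ s →
        s - φ r ∈ (IsLocalRing.maximalIdeal R ^ (n + 1)).map φ) : φ.Flat := by
  letI := φ.toAlgebra
  show Module.Flat R S
  refine GrothLib.Flatness.flat_of_forall_pow (S := S) (IsLocalRing.maximalIdeal R) ?_ ?_
  · rw [IsLocalRing.jacobson_eq_maximalIdeal ⊥ bot_ne_top]
    exact Ideal.map_le_iff_le_comap.2 fun a ha hu => ha (IsLocalHom.map_nonunit a hu)
  intro n A B _ _ _ _ f hA hB hf
  set I : Ideal R := IsLocalRing.maximalIdeal R ^ (n + 1) with hI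
  have hle : I ≤ IsLocalRing.maximalIdeal R ^ n := Ideal.pow_le_pow_right n.le_succ
  obtain ⟨ψ, hψ, hspan⟩ := H n
  have hA' : Module.IsTorsionBySet R A I := fun x a => @hA x ⟨a.1, hle a.2⟩
  have hB' : Module.IsTorsionBySet R B I := fun x a => @hB x ⟨a.1, hle a.2⟩
  letI := hB'.module
  haveI : IsScalarTower R (R ⧸ I) B := hB'.isScalarTower
  have hψs : ∀ (r : R) (s : S), ψ (r • s) = r • ψ s := fun r s => by
    rw [Algebra.smul_def, map_mul, Algebra.smul_def]
    congr 1
    exact RingHom.congr_fun hψ r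
  let bl : S →ₗ[R] B →ₗ[R] B := LinearMap.mk₂ R (fun s b => ψ s • b)
    (fun s t b => by rw [map_add, add_smul])
    (fun r s b => by rw [hψs, smul_assoc])
    (fun s b c => smul_add _ _ _)
    (fun r s b => smul_comm _ _ _)
  let ηA : A →ₗ[R] TensorProduct R S A := TensorProduct.mk R S A 1
  let ηB : B →ₗ[R] TensorProduct R S B := TensorProduct.mk R S B 1
  have hinj : Function.Injective ηB := Function.LeftInverse.injective
    (g := TensorProduct.lift bl) fun b => by
      show TensorProduct.lift bl (1 ⊗ₜ b) = b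
      simp [bl]
  have hsurj : Function.Surjective ηA := by
    intro z
    induction z using TensorProduct.induction_on with
    | zero => exact ⟨0, map_zero _⟩
    | add x y hx hy =>
      obtain ⟨a, rfl⟩ := hx
      obtain ⟨b, rfl⟩ := hy
      exact ⟨a + b, map_add _ _ _⟩
    | tmul s a =>
      obtain ⟨r, hr⟩ := Ideal.Quotient.mk_surjective (ψ s)
      refine ⟨r • a, ?_⟩
      have hz : ∀ t ∈ I.map φ, (t ⊗ₜ[R] a : TensorProduct R S A) = 0 := by
        intro t ht
        have ht' : t ∈ I • (⊤ : Submodule R S) := by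
          rw [Ideal.smul_top_eq_map]; exact ht
        refine Submodule.smul_induction_on ht' (fun c hc u _ => ?_) fun x y hx hy => by
          rw [TensorProduct.add_tmul, hx, hy, add_zero]
        rw [TensorProduct.smul_tmul, @hA' a ⟨c, hc⟩, TensorProduct.tmul_zero]
      have h1 := hz _ (hspan s r hr)
      rw [TensorProduct.sub_tmul, sub_eq_zero] at h1
      show (1 : S) ⊗ₜ[R] (r • a) = s ⊗ₜ[R] a
      rw [h1, ← TensorProduct.smul_tmul, Algebra.smul_def, _root_.mul_one]
      rfl
  intro x y hxy
  obtain ⟨a, rfl⟩ := hsurj x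
  obtain ⟨b, rfl⟩ := hsurj y
  have hab : ηB (f a) = ηB (f b) := hxy
  rw [hf (hinj hab)]

theorem isUnit_residueField {G : Over (Spec (CommRingCat.of k))} (i : G ⟶ M) [Mono i.left]
    (hi : ∀ (T : Over (Spec (CommRingCat.of k))) (m : T ⟶ M),
      (∃ g : T ⟶ G, g ≫ i = m) ↔ IsUnit m) (x : G.left)
    (m : Over.mk (M.left.fromSpecResidueField (i.left x) ≫ M.hom) ⟶ M)
    (hm : m.left = M.left.fromSpecResidueField (i.left x)) : IsUnit m := by
  let y := i.left x
  let p := M.left.fromSpecResidueField y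
  let q := pullback.fst p i.left
  obtain ⟨z, -, -⟩ := Scheme.Pullback.exists_preimage_pullback
    (f := p) (g := i.left) (IsLocalRing.closedPoint (M.left.residueField y)) x (by
      show p _ = _
      exact Scheme.fromSpecResidueField_apply _ _)
  have : Subsingleton (pullback p i.left : Scheme) :=
    ⟨fun a b => q.injective (Subsingleton.elim _ _)⟩
  have : CompactSpace (pullback p i.left : Scheme) := Finite.compactSpace
  have : QuasiCompact q := (quasiCompact_iff_compactSpace q).mpr inferInstance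
  have : Surjective q := ⟨fun a => ⟨z, Subsingleton.elim _ _⟩⟩
  have : Flat q := GrothLib.DiagGrp.flat_of_field (L := M.left.residueField y) q
  have := Flat.isIso_of_surjective_of_mono q
  let g : Over.mk (p ≫ M.hom) ⟶ G := Over.homMk (inv q ≫ pullback.snd p i.left) (by
    show (inv q ≫ _) ≫ G.hom = p ≫ M.hom
    rw [← Over.w i, Category.assoc, IsIso.inv_comp_eq, ← pullback.condition_assoc])
  refine (hi _ m).1 ⟨g, Over.OverMorphism.ext ?_⟩
  show (inv q ≫ pullback.snd p i.left) ≫ i.left = m.left
  rw [hm, Category.assoc, IsIso.inv_comp_eq, pullback.condition]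

/-- Lifting the infinitesimal neighbourhoods of a point of the unit group. -/
theorem exists_retraction {G : Over (Spec (CommRingCat.of k))} (i : G ⟶ M) [Mono i.left]
    (hi : ∀ (T : Over (Spec (CommRingCat.of k))) (m : T ⟶ M),
      (∃ g : T ⟶ G, g ≫ i = m) ↔ IsUnit m) (x : G.left) (n : ℕ) :
    ∃ ψ : G.left.presheaf.stalk x →+*
        M.left.presheaf.stalk (i.left x) ⧸ IsLocalRing.maximalIdeal _ ^ (n + 1),
      ψ.comp (i.left.stalkMap x).hom = Ideal.Quotient.mk _ ∧ ∀ s r, Ideal.Quotient.mk _ r = ψ s →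
        s - (i.left.stalkMap x).hom r ∈
          (IsLocalRing.maximalIdeal (M.left.presheaf.stalk (i.left x)) ^ (n + 1)).map
            (i.left.stalkMap x).hom := by
  let y := i.left x
  let R := M.left.presheaf.stalk y
  let S := G.left.presheaf.stalk x
  let φ : R ⟶ S := i.left.stalkMap x
  let I : Ideal R := IsLocalRing.maximalIdeal R ^ (n + 1)
  let R' := CommRingCat.of (R ⧸ I)
  let q : R ⟶ R' := CommRingCat.ofHom (Ideal.Quotient.mk I)
  have hI : I ≤ IsLocalRing.maximalIdeal R := Ideal.pow_le_self n.succ_ne_zero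
  let r : R' ⟶ M.left.residueField y :=
    CommRingCat.ofHom (Ideal.Quotient.lift I (M.left.residue y).hom fun a ha => by
      exact (IsLocalRing.residue_eq_zero_iff a).2 (hI ha))
  have hqr : q ≫ r = M.left.residue y := by ext a; rfl
  let m : Over.mk (Spec.map q ≫ M.left.fromSpecStalk y ≫ M.hom) ⟶ M :=
    Over.homMk (Spec.map q ≫ M.left.fromSpecStalk y) (by simp [Category.assoc])
  have hres : Spec.map r ≫ Spec.map q ≫ M.left.fromSpecStalk y =
      M.left.fromSpecResidueField y := by
    rw [← Spec.map_comp_assoc, hqr]; rfl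
  let t : Over.mk (M.left.fromSpecResidueField y ≫ M.hom) ⟶
      Over.mk (Spec.map q ≫ M.left.fromSpecStalk y ≫ M.hom) :=
    Over.homMk (Spec.map r) (by
      show Spec.map r ≫ _ = _
      rw [← hres, Category.assoc, Category.assoc]; rfl)
  have hsurj : Function.Surjective r.hom := fun a => by
    obtain ⟨b, rfl⟩ := M.left.residue_surjective y a
    exact ⟨q.hom b, rfl⟩
  have hnil : IsNilpotent (RingHom.ker r.hom) := by
    refine ⟨n + 1, le_bot_iff.1 ?_⟩
    have : RingHom.ker r.hom ≤ (IsLocalRing.maximalIdeal R).map (Ideal.Quotient.mk I) := by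
      intro a ha
      obtain ⟨b, rfl⟩ := Ideal.Quotient.mk_surjective a
      exact Ideal.mem_map_of_mem _ ((IsLocalRing.residue_eq_zero_iff b).1 ha)
    refine (Ideal.pow_right_mono this _).trans ?_
    rw [← Ideal.map_pow, Ideal.map_quotient_self]
  have hu : IsUnit m := isUnit_of_thickening t (isFiniteOrderThickening_specMap r hsurj hnil) m
    (isUnit_residueField i hi x _ hres)
  obtain ⟨g, hg⟩ := (hi _ m).2 hu
  have hσ : g.left ≫ i.left = Spec.map q ≫ M.left.fromSpecStalk y := congrArg CommaMorphism.left hg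
  have : Nontrivial R' := Ideal.Quotient.nontrivial_iff.2
    (ne_top_of_le_ne_top (IsLocalRing.maximalIdeal.isMaximal R).ne_top hI)
  have : IsLocalRing R' := .of_surjective' (Ideal.Quotient.mk I) Ideal.Quotient.mk_surjective
  let σ : Spec R' ⟶ G.left := g.left
  have : IsLocalHom q.hom := IsLocalHom.of_surjective _ Ideal.Quotient.mk_surjective
  obtain ⟨x', hx', ψ, hψ⟩ : ∃ x', i.left x' = y ∧ ∃ ψ : G.left.presheaf.stalk x' ⟶ R',
      Spec.map ψ ≫ G.left.fromSpecStalk x' = σ := by
    refine ⟨σ (IsLocalRing.closedPoint R'), ?_, Scheme.stalkClosedPointTo σ,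
      Scheme.Spec_stalkClosedPointTo_fromSpecStalk σ⟩
    rw [← Scheme.Hom.comp_apply]
    show (g.left ≫ i.left) _ = y
    rw [hσ, Scheme.Hom.comp_apply, Spec_closedPoint, Scheme.fromSpecStalk_closedPoint]
  obtain rfl : x' = x := i.left.injective hx'
  refine ⟨ψ.hom, ?_, ?_⟩
  · have h : φ ≫ ψ = q := by
      apply Spec.map_injective
      rw [← cancel_mono (M.left.fromSpecStalk y), Spec.map_comp, Category.assoc, ← hσ]
      show Spec.map ψ ≫ Spec.map (i.left.stalkMap x') ≫ M.left.fromSpecStalk (i.left x') = σ ≫ i.left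
      rw [Scheme.SpecMap_stalkMap_fromSpecStalk, reassoc_of% hψ]
    exact congrArg CommRingCat.Hom.hom h
  · intro s a ha
    let J : Ideal S := I.map φ.hom
    let S' := CommRingCat.of (S ⧸ J)
    let q' : S ⟶ S' := CommRingCat.ofHom (Ideal.Quotient.mk J)
    let θ : R' ⟶ S' := CommRingCat.ofHom (Ideal.quotientMap J φ.hom Ideal.le_comap_map)
    have hθ : q ≫ θ = φ ≫ q' := by ext b; rfl
    have h : ψ ≫ θ = q' := by
      apply Spec.map_injective
      rw [← cancel_mono (G.left.fromSpecStalk x'), ← cancel_mono i.left, Spec.map_comp]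
      simp only [Category.assoc]
      rw [reassoc_of% hψ, show σ ≫ i.left = _ from hσ, ← Spec.map_comp_assoc, hθ,
        Spec.map_comp_assoc]
      congr 1
      exact Scheme.SpecMap_stalkMap_fromSpecStalk i.left
    have h2 := congrArg (fun f => f.hom s) h
    change θ.hom (ψ.hom s) = Ideal.Quotient.mk J s at h2
    rw [← ha] at h2
    exact Ideal.Quotient.eq.1 h2.symm

/-- The unit group of a monoid scheme of finite type over a field is open. -/
theorem isOpenImmersion {G : Over (Spec (CommRingCat.of k))} [LocallyOfFiniteType M.hom]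
    [LocallyOfFiniteType G.hom] (i : G ⟶ M) [Mono i]
    (hi : ∀ (T : Over (Spec (CommRingCat.of k))) (m : T ⟶ M),
      (∃ g : T ⟶ G, g ≫ i = m) ↔ IsUnit m) : IsOpenImmersion i.left := by
  have : Mono i.left := inferInstanceAs (Mono ((Over.forget _).map i))
  have : LocallyOfFiniteType (i.left ≫ M.hom) := by rw [Over.w i]; infer_instance
  have : LocallyOfFiniteType i.left := locallyOfFiniteType_of_comp i.left M.hom
  have : IsLocallyNoetherian M.left := LocallyOfFiniteType.isLocallyNoetherian M.hom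
  have : IsLocallyNoetherian G.left := LocallyOfFiniteType.isLocallyNoetherian G.hom
  have : LocallyOfFinitePresentation i.left := GrothLib.GrpSchField.lfp_of_isLocallyNoetherian _
  have : Flat i.left := Flat.of_stalkMap _ fun x =>
    flat_of_split (i.left.stalkMap x).hom (exists_retraction i hi x)
  exact IsOpenImmersion.of_flat_of_mono _

end GrothLib.MonoidUnits
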